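import Mathlib
import Cfsg.Agent.Lib.Helper93.RU0

/-!
# RV project (S2279): `SL_n(F)`, `n ≥ 4`, is generated by two conjugate regular unipotents.
Shared definitions (on top of the RU definitions of helper93: `n = m + 3`, `SLm`, `tvS`, `eV`, `uEl`, `Wset`).
-/

set_option autoImplicit false

namespace Cfsg.Agent.Helper43.RV

open Matrix Cfsg.Agent.Helper93.RU

variable {F : Type*} [Field F] {m : ℕ}

/-- the last index `n - 1 = m + 2` -/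
def lastI (m : ℕ) : Fin (m + 3) := Fin.last (m + 2)

/-- `p_j = u^j e_{n-1}` (a column), `j : ℤ` -/
noncomputable def PV (m : ℕ) (F : Type*) [Field F] (j : ℤ) : Fin (m + 3) → F :=
  ((uEl m F) ^ j).1 *ᵥ eV (lastI m)

/-- `q_j = e_0ᵀ u^{-j}` (a row), `j : ℤ` -/
noncomputable def QV (m : ℕ) (F : Type*) [Field F] (j : ℤ) : Fin (m + 3) → F :=
  eV 0 ᵥ* ((uEl m F) ^ (-j)).1

/-- the Gram values `κ(t) = (u^t)_{0,n-1} = q_j · p_{j+t}` -/
noncomputable def kap (m : ℕ) (F : Type*) [Field F] (t : ℤ) : F :=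
  ((uEl m F) ^ t).1 0 (lastI m)

/-- `X(a,k,j) = 1 + a p_k q_jᵀ` (a transvection when `κ(k-j) = 0`) -/
noncomputable def XE (a : F) (k j : ℤ) : SLm m F := tvS (a • PV m F k) (QV m F j)

/-- `σ_j = X(c,j,j) X(-c,j+1,j+1) = u^j (g u g⁻¹ u⁻¹) u^{-j}` -/
noncomputable def sEl (c : F) (j : ℤ) : SLm m F := XE c j j * XE (-c) (j + 1) (j + 1)

/-- `g = x_{n-1,0}(c) = 1 + c E_{n-1,0}` -/
noncomputable def gEl (c : F) : SLm m F := tvS (c • eV (lastI m)) (eV 0)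

/-- the abstract closure rules for the coefficient groups `B d = {a : X(a,d,0) ∈ H}`, `0 ≤ d ≤ m+1 = n-2` -/
structure Rules (m : ℕ) (c : F) (K : ℤ → F) (B : ℕ → AddSubgroup F) : Prop where
  r1 : ∀ d : ℕ, d ≤ m → ∀ a ∈ B d, c * a ∈ B (d + 1)
  r2 : ∀ (d1 d2 d : ℕ) (t : ℤ), d1 ≤ m + 1 → d2 ≤ m + 1 → d ≤ m + 1 → (d : ℤ) = d1 + d2 - t →
        ∀ a ∈ B d1, ∀ b ∈ B d2, K t * a * b ∈ B d
  r3 : c ^ 3 ∈ B 2
  k1 : K ((m : ℤ) + 2) = 1

end Cfsg.Agent.Helper43.RV
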